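import Mathlib

/-!
helper71: an abstract Mayer–Vietoris lemma for comparison maps `B ⊗_A Γ(W) → Γ'(W')` with `B` flat.
-/

set_option autoImplicit false
open TensorProduct

namespace Groth.Agent.H71.PushBC

variable {A : Type*} [CommRing A] {B : Type*} [AddCommGroup B] [Module A B] [Module.Flat A B]
  {G G₁ G₂ G₁₂ : Type*} [AddCommGroup G] [AddCommGroup G₁] [AddCommGroup G₂] [AddCommGroup G₁₂]
  [Module A G] [Module A G₁] [Module A G₂] [Module A G₁₂]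
  (r₁ : G →ₗ[A] G₁) (r₂ : G →ₗ[A] G₂) (s₁ : G₁ →ₗ[A] G₁₂) (s₂ : G₂ →ₗ[A] G₁₂)

include r₁ r₂ s₁ s₂ in
theorem lTensor_sep_glue
    (hsep : ∀ x, r₁ x = 0 → r₂ x = 0 → x = 0)
    (hglue : ∀ x₁ x₂, s₁ x₁ = s₂ x₂ → ∃ x, r₁ x = x₁ ∧ r₂ x = x₂)
    (hcomm : ∀ x, s₁ (r₁ x) = s₂ (r₂ x)) :
    (∀ t : B ⊗[A] G, r₁.lTensor B t = 0 → r₂.lTensor B t = 0 → t = 0) ∧
    (∀ (t₁ : B ⊗[A] G₁) (t₂ : B ⊗[A] G₂), s₁.lTensor B t₁ = s₂.lTensor B t₂ →
      ∃ t : B ⊗[A] G, r₁.lTensor B t = t₁ ∧ r₂.lTensor B t = t₂) := by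
  let r : G →ₗ[A] G₁ × G₂ := r₁.prod r₂
  let d : G₁ × G₂ →ₗ[A] G₁₂ := s₁.coprod (-s₂)
  have hr : Function.Injective r := by
    rw [injective_iff_map_eq_zero]
    intro x hx
    have h1 : r₁ x = 0 := congrArg Prod.fst hx
    have h2 : r₂ x = 0 := congrArg Prod.snd hx
    exact hsep x h1 h2
  have hex : Function.Exact r d := by
    intro p
    constructor
    · intro hp
      have hp' : s₁ p.1 = s₂ p.2 := by
        have : s₁ p.1 + -s₂ p.2 = 0 := hp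
        exact add_neg_eq_zero.mp this
      obtain ⟨x, hx1, hx2⟩ := hglue p.1 p.2 hp'
      exact ⟨x, Prod.ext hx1 hx2⟩
    · rintro ⟨x, rfl⟩
      change s₁ (r₁ x) + -s₂ (r₂ x) = 0
      rw [hcomm, add_neg_cancel]
  have hrB : Function.Injective (r.lTensor B) :=
    Module.Flat.lTensor_preserves_injective_linearMap r hr
  have hexB : Function.Exact (r.lTensor B) (d.lTensor B) := Module.Flat.lTensor_exact B hex
  have e1 : (LinearMap.fst A G₁ G₂) ∘ₗ r = r₁ := LinearMap.fst_prod _ _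
  have e2 : (LinearMap.snd A G₁ G₂) ∘ₗ r = r₂ := LinearMap.snd_prod _ _
  have hid : LinearMap.inl A G₁ G₂ ∘ₗ LinearMap.fst A G₁ G₂ +
      LinearMap.inr A G₁ G₂ ∘ₗ LinearMap.snd A G₁ G₂ = LinearMap.id := by
    ext <;> simp
  constructor
  · intro t h1 h2
    apply hrB
    rw [map_zero]
    have : r = (LinearMap.inl A G₁ G₂ ∘ₗ LinearMap.fst A G₁ G₂ +
        LinearMap.inr A G₁ G₂ ∘ₗ LinearMap.snd A G₁ G₂) ∘ₗ r := by rw [hid, LinearMap.id_comp]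
    rw [this, LinearMap.add_comp, LinearMap.comp_assoc, LinearMap.comp_assoc, e1, e2,
      LinearMap.lTensor_add, LinearMap.lTensor_comp, LinearMap.lTensor_comp, LinearMap.add_apply,
      LinearMap.comp_apply, LinearMap.comp_apply, h1, h2, map_zero, map_zero, add_zero]
  · intro t₁ t₂ h12
    let p : B ⊗[A] (G₁ × G₂) :=
      (LinearMap.inl A G₁ G₂).lTensor B t₁ + (LinearMap.inr A G₁ G₂).lTensor B t₂
    have d1 : d ∘ₗ LinearMap.inl A G₁ G₂ = s₁ := LinearMap.coprod_inl _ _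
    have d2 : d ∘ₗ LinearMap.inr A G₁ G₂ = -s₂ := LinearMap.coprod_inr _ _
    have hp : d.lTensor B p = 0 := by
      change d.lTensor B ((LinearMap.inl A G₁ G₂).lTensor B t₁ +
        (LinearMap.inr A G₁ G₂).lTensor B t₂) = 0
      rw [map_add, ← LinearMap.comp_apply, ← LinearMap.comp_apply, ← LinearMap.lTensor_comp,
        ← LinearMap.lTensor_comp, d1, d2, LinearMap.lTensor_neg, LinearMap.neg_apply, h12,
        add_neg_cancel]
    obtain ⟨t, ht⟩ := (hexB p).mp hp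
    refine ⟨t, ?_, ?_⟩
    · have f1 : LinearMap.fst A G₁ G₂ ∘ₗ LinearMap.inl A G₁ G₂ = LinearMap.id := by ext; simp
      have f2 : LinearMap.fst A G₁ G₂ ∘ₗ LinearMap.inr A G₁ G₂ = 0 := by ext; simp
      rw [← e1, LinearMap.lTensor_comp, LinearMap.comp_apply, ht]
      change (LinearMap.fst A G₁ G₂).lTensor B ((LinearMap.inl A G₁ G₂).lTensor B t₁ +
        (LinearMap.inr A G₁ G₂).lTensor B t₂) = t₁
      rw [map_add, ← LinearMap.comp_apply, ← LinearMap.comp_apply, ← LinearMap.lTensor_comp,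
        ← LinearMap.lTensor_comp, f1, f2, LinearMap.lTensor_id, LinearMap.lTensor_zero,
        LinearMap.id_apply, LinearMap.zero_apply, add_zero]
    · have f1 : LinearMap.snd A G₁ G₂ ∘ₗ LinearMap.inl A G₁ G₂ = 0 := by ext; simp
      have f2 : LinearMap.snd A G₁ G₂ ∘ₗ LinearMap.inr A G₁ G₂ = LinearMap.id := by ext; simp
      rw [← e2, LinearMap.lTensor_comp, LinearMap.comp_apply, ht]
      change (LinearMap.snd A G₁ G₂).lTensor B ((LinearMap.inl A G₁ G₂).lTensor B t₁ +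
        (LinearMap.inr A G₁ G₂).lTensor B t₂) = t₂
      rw [map_add, ← LinearMap.comp_apply, ← LinearMap.comp_apply, ← LinearMap.lTensor_comp,
        ← LinearMap.lTensor_comp, f1, f2, LinearMap.lTensor_id, LinearMap.lTensor_zero,
        LinearMap.id_apply, LinearMap.zero_apply, zero_add]

variable {H H₁ H₂ H₁₂ : Type*} [AddCommGroup H] [AddCommGroup H₁] [AddCommGroup H₂]
  [AddCommGroup H₁₂]
  (ρ₁ : H →+ H₁) (ρ₂ : H →+ H₂) (σ₁ : H₁ →+ H₁₂) (σ₂ : H₂ →+ H₁₂)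
  (c : B ⊗[A] G →+ H) (c₁ : B ⊗[A] G₁ →+ H₁) (c₂ : B ⊗[A] G₂ →+ H₂) (c₁₂ : B ⊗[A] G₁₂ →+ H₁₂)

include r₁ r₂ s₁ s₂ ρ₁ ρ₂ σ₁ σ₂ c c₁ c₂ c₁₂ in
/-- **abstract Mayer–Vietoris step** -/
theorem bijective_of_mv
    (hsep : ∀ x, r₁ x = 0 → r₂ x = 0 → x = 0)
    (hglue : ∀ x₁ x₂, s₁ x₁ = s₂ x₂ → ∃ x, r₁ x = x₁ ∧ r₂ x = x₂)
    (hcomm : ∀ x, s₁ (r₁ x) = s₂ (r₂ x))
    (hsep' : ∀ y, ρ₁ y = 0 → ρ₂ y = 0 → y = 0)
    (hcomm' : ∀ y, σ₁ (ρ₁ y) = σ₂ (ρ₂ y))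
    (n₁ : ∀ t, ρ₁ (c t) = c₁ (r₁.lTensor B t)) (n₂ : ∀ t, ρ₂ (c t) = c₂ (r₂.lTensor B t))
    (m₁ : ∀ t, σ₁ (c₁ t) = c₁₂ (s₁.lTensor B t)) (m₂ : ∀ t, σ₂ (c₂ t) = c₁₂ (s₂.lTensor B t))
    (h₁ : Function.Bijective c₁) (h₂ : Function.Bijective c₂) (h₁₂ : Function.Injective c₁₂) :
    Function.Bijective c := by
  obtain ⟨hS, hG⟩ := lTensor_sep_glue (B := B) r₁ r₂ s₁ s₂ hsep hglue hcomm
  constructor
  · rw [injective_iff_map_eq_zero]
    intro t ht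
    apply hS t
    · apply h₁.1
      rw [← n₁, ht, map_zero, map_zero]
    · apply h₂.1
      rw [← n₂, ht, map_zero, map_zero]
  · intro y
    obtain ⟨t₁, ht₁⟩ := h₁.2 (ρ₁ y)
    obtain ⟨t₂, ht₂⟩ := h₂.2 (ρ₂ y)
    have h12 : s₁.lTensor B t₁ = s₂.lTensor B t₂ := by
      apply h₁₂
      rw [← m₁, ← m₂, ht₁, ht₂, hcomm']
    obtain ⟨t, e1, e2⟩ := hG t₁ t₂ h12
    refine ⟨t, ?_⟩
    have : c t - y = 0 := by
      apply hsep'
      · rw [map_sub, n₁, e1, ht₁, sub_self]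
      · rw [map_sub, n₂, e2, ht₂, sub_self]
    exact sub_eq_zero.mp this

end Groth.Agent.H71.PushBC
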