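import Groth.Agent.H71.BaseChangeAffine
import Groth.Agent.H71.PushBC.Alg
import Groth.Agent.H8.QcqsPush
import Groth.Agent.Lead.Coh.QcqsInd

/-!
helper71: flat base change for direct images along quasi-compact quasi-separated morphisms,
the comparison maps `Γ(S', V') ⊗_{Γ(S, V)} Γ(M, W) → Γ(g'^* M, g'⁻¹ W ∩ f'⁻¹ V')` on sections.
-/

set_option autoImplicit false
universe u
open CategoryTheory AlgebraicGeometry Scheme.Modules Opposite TopologicalSpace TensorProduct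

namespace Groth.Agent.H71.PushBC

open Groth.Agent.H44

variable {X S X' S' : Scheme.{u}} {f : X ⟶ S} {g : S' ⟶ S} {g' : X' ⟶ X} {f' : X' ⟶ S'}

theorem pullSectLE_add' {X Y : Scheme.{u}} (h : X ⟶ Y) (M : Y.Modules) (W : Y.Opens) (W' : X.Opens)
    (le : W' ≤ h ⁻¹ᵁ W) (x y : Γ(M, W)) :
    pullSectLE h M W W' le (x + y) = pullSectLE h M W W' le x + pullSectLE h M W W' le y := by
  unfold pullSectLE
  have h1 : (OmegaSh.pullSect h M W) (x + y) =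
      (OmegaSh.pullSect h M W) x + (OmegaSh.pullSect h M W) y :=
    map_add (OmegaSh.pullSect h M W).hom x y
  rw [h1]
  exact map_add (((Scheme.Modules.pullback h).obj M).presheaf.map (homOfLE le).op).hom _ _

theorem pullSectLE_zero' {X Y : Scheme.{u}} (h : X ⟶ Y) (M : Y.Modules) (W : Y.Opens) (W' : X.Opens)
    (le : W' ≤ h ⁻¹ᵁ W) : pullSectLE h M W W' le 0 = 0 := by
  unfold pullSectLE
  have h1 : (OmegaSh.pullSect h M W) 0 = 0 := map_zero (OmegaSh.pullSect h M W).hom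
  rw [h1]
  exact map_zero (((Scheme.Modules.pullback h).obj M).presheaf.map (homOfLE le).op).hom

/-- the algebra structure `Γ(S, V) → Γ(S', V')` -/
@[reducible] noncomputable def algAB {V : S.Opens} {V' : S'.Opens} (e₁ : V' ≤ g ⁻¹ᵁ V) :
    Algebra Γ(S, V) Γ(S', V') := (g.appLE V V' e₁).hom.toAlgebra

/-- the module structure of `Γ(M, W)` over `Γ(S, V)` for `W ≤ f⁻¹ V` -/
@[reducible] noncomputable def modW (M : X.Modules) {V : S.Opens} (W : X.Opens)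
    (hW : W ≤ f ⁻¹ᵁ V) : Module Γ(S, V) Γ(M, W) :=
  Module.compHom Γ(M, W) (f.appLE V W hW).hom

variable (w : g' ≫ f = f' ≫ g) (M : X.Modules) {V : S.Opens} {V' : S'.Opens}
  (e₁ : V' ≤ g ⁻¹ᵁ V)

include w in
theorem appLE_square (W : X.Opens) (hW : W ≤ f ⁻¹ᵁ V) (a : Γ(S, V)) :
    (f'.appLE V' (g' ⁻¹ᵁ W ⊓ f' ⁻¹ᵁ V') inf_le_right).hom ((g.appLE V V' e₁).hom a) =
      (g'.appLE W (g' ⁻¹ᵁ W ⊓ f' ⁻¹ᵁ V') inf_le_left).hom ((f.appLE V W hW).hom a) := by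
  have h1 : g.appLE V V' e₁ ≫ f'.appLE V' (g' ⁻¹ᵁ W ⊓ f' ⁻¹ᵁ V') inf_le_right =
      f.appLE V W hW ≫ g'.appLE W (g' ⁻¹ᵁ W ⊓ f' ⁻¹ᵁ V') inf_le_left := by
    rw [Scheme.Hom.appLE_comp_appLE, Scheme.Hom.appLE_comp_appLE]
    simp only [w]
  exact congr($h1 a)

/-- the comparison map on sections -/
noncomputable def cmap (W : X.Opens) (hW : W ≤ f ⁻¹ᵁ V) :
    letI := algAB (g := g) e₁
    letI := modW (f := f) M W hW
    Γ(S', V') ⊗[Γ(S, V)] Γ(M, W) →+ Γ((pullback g').obj M, g' ⁻¹ᵁ W ⊓ f' ⁻¹ᵁ V') :=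
  letI := algAB (g := g) e₁
  letI := modW (f := f) M W hW
  TensorProduct.liftAddHom
    { toFun := fun b =>
        { toFun := fun m => (f'.appLE V' (g' ⁻¹ᵁ W ⊓ f' ⁻¹ᵁ V') inf_le_right).hom b •
            pullSectLE g' M W (g' ⁻¹ᵁ W ⊓ f' ⁻¹ᵁ V') inf_le_left m
          map_zero' := by rw [pullSectLE_zero', smul_zero]
          map_add' := fun m m' => by rw [pullSectLE_add', smul_add] }
      map_zero' := by
        ext m
        change (f'.appLE V' (g' ⁻¹ᵁ W ⊓ f' ⁻¹ᵁ V') inf_le_right).hom 0 •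
          pullSectLE g' M W (g' ⁻¹ᵁ W ⊓ f' ⁻¹ᵁ V') inf_le_left m = 0
        rw [map_zero, zero_smul]
      map_add' := fun b b' => by
        ext m
        change (f'.appLE V' (g' ⁻¹ᵁ W ⊓ f' ⁻¹ᵁ V') inf_le_right).hom (b + b') •
            pullSectLE g' M W (g' ⁻¹ᵁ W ⊓ f' ⁻¹ᵁ V') inf_le_left m =
          (f'.appLE V' (g' ⁻¹ᵁ W ⊓ f' ⁻¹ᵁ V') inf_le_right).hom b •
            pullSectLE g' M W (g' ⁻¹ᵁ W ⊓ f' ⁻¹ᵁ V') inf_le_left m +
          (f'.appLE V' (g' ⁻¹ᵁ W ⊓ f' ⁻¹ᵁ V') inf_le_right).hom b' •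
            pullSectLE g' M W (g' ⁻¹ᵁ W ⊓ f' ⁻¹ᵁ V') inf_le_left m
        rw [map_add, add_smul] }
    (fun a b m => by
      change (f'.appLE V' (g' ⁻¹ᵁ W ⊓ f' ⁻¹ᵁ V') inf_le_right).hom ((g.appLE V V' e₁).hom a * b) •
          pullSectLE g' M W (g' ⁻¹ᵁ W ⊓ f' ⁻¹ᵁ V') inf_le_left m =
        (f'.appLE V' (g' ⁻¹ᵁ W ⊓ f' ⁻¹ᵁ V') inf_le_right).hom b •
          pullSectLE g' M W (g' ⁻¹ᵁ W ⊓ f' ⁻¹ᵁ V') inf_le_left ((f.appLE V W hW).hom a • m)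
      rw [pullSectLE_smul, map_mul, appLE_square w e₁ W hW, smul_smul, mul_comm])

theorem cmap_tmul (W : X.Opens) (hW : W ≤ f ⁻¹ᵁ V) (b : Γ(S', V')) (m : Γ(M, W)) :
    letI := algAB (g := g) e₁
    letI := modW (f := f) M W hW
    cmap w M e₁ W hW (b ⊗ₜ[Γ(S, V)] m) =
      (f'.appLE V' (g' ⁻¹ᵁ W ⊓ f' ⁻¹ᵁ V') inf_le_right).hom b •
        pullSectLE g' M W (g' ⁻¹ᵁ W ⊓ f' ⁻¹ᵁ V') inf_le_left m := rfl

end Groth.Agent.H71.PushBC
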