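import Groth.Agent.H71.PushBC.Main

/-!
helper71: **flat base change** for direct images along quasi-compact quasi-separated morphisms:
for a cartesian square with `f` qcqs and `g` flat and `M` quasi-coherent, the base change map
`g^* f_* M ⟶ f'_* g'^* M` is an isomorphism.
-/

set_option autoImplicit false
universe u
open CategoryTheory AlgebraicGeometry Scheme.Modules Opposite TopologicalSpace TensorProduct

namespace Groth.Agent.H71.PushBC

open Groth.Agent.H44 Groth.Agent.H71.BaseChange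

variable {X S X' S' : Scheme.{u}} {f : X ⟶ S} {g : S' ⟶ S} {g' : X' ⟶ X} {f' : X' ⟶ S'}

set_option maxHeartbeats 1600000 in
set_option maxRecDepth 4000 in
theorem bc_app_bijective_of_flat (h : IsPullback g' f' f g) [QuasiCompact f] [QuasiSeparated f]
    (M : X.Modules) [M.IsQuasicoherent] [((pushforward f).obj M).IsQuasicoherent]
    {V : S.Opens} {V' : S'.Opens} (hV : IsAffineOpen V) (hV' : IsAffineOpen V')
    (e₁ : V' ≤ g ⁻¹ᵁ V) (hfl : (g.appLE V V' e₁).hom.Flat) :
    Function.Bijective ((bc f g g' f' h.w M).app V') := by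
  letI := algAB (g := g) e₁
  have e₂ : f' ⁻¹ᵁ V' ≤ g' ⁻¹ᵁ (f ⁻¹ᵁ V) :=
    (f'.preimage_mono e₁).trans (preimage_le f g g' f' h.w V)
  have hle : f' ⁻¹ᵁ V' ≤ g' ⁻¹ᵁ (f ⁻¹ᵁ V) ⊓ f' ⁻¹ᵁ V' := le_inf e₂ le_rfl
  letI mR : Module Γ(S, V) Γ(M, f ⁻¹ᵁ V) := modW (f := f) M (f ⁻¹ᵁ V) le_rfl
  have hcmap := cmap_bijective_of_isCompact M e₁ h hV hV' hfl
    (f.isQuasiSeparated_preimage hV.isQuasiSeparated) (f ⁻¹ᵁ V) le_rfl
    (f.isCompact_preimage hV.isCompact)
  let E₁ := pullbackSectionsEquiv g ((pushforward f).obj M) hV' hV e₁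
  let ι : Γ((pushforward f).obj M, V) ≃ₗ[Γ(S, V)] Γ(M, f ⁻¹ᵁ V) :=
    { toFun := fun x => x
      map_add' := fun _ _ => rfl
      map_smul' := fun r m => by
        change (show Γ(M, f ⁻¹ᵁ V) from (r • m : Γ((pushforward f).obj M, V))) =
          (f.appLE V (f ⁻¹ᵁ V) le_rfl).hom r • (show Γ(M, f ⁻¹ᵁ V) from m)
        rw [Scheme.Hom.appLE_eq_app]
        rfl
      invFun := fun x => x
      left_inv := fun _ => rfl
      right_inv := fun _ => rfl }
  let N := (Scheme.Modules.pullback g').obj M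
  have hρ : Function.Bijective (N.presheaf.map (homOfLE hle).op) := by
    constructor
    · intro x y hxy
      have := congrArg (N.presheaf.map (homOfLE (inf_le_right :
        g' ⁻¹ᵁ (f ⁻¹ᵁ V) ⊓ f' ⁻¹ᵁ V' ≤ f' ⁻¹ᵁ V')).op) hxy
      rwa [resM_comp, resM_comp, resM_refl, resM_refl] at this
    · intro y
      refine ⟨N.presheaf.map (homOfLE (inf_le_right :
        g' ⁻¹ᵁ (f ⁻¹ᵁ V) ⊓ f' ⁻¹ᵁ V' ≤ f' ⁻¹ᵁ V')).op y, ?_⟩
      rw [resM_comp, resM_refl]
  let L : Γ(S', V') ⊗[Γ(S, V)] Γ((pushforward f).obj M, V) →+ Γ(N, f' ⁻¹ᵁ V') :=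
    (((bc f g g' f' h.w M).app V').hom).comp E₁.symm.toLinearMap.toAddMonoidHom
  let R : Γ(S', V') ⊗[Γ(S, V)] Γ((pushforward f).obj M, V) →+ Γ(N, f' ⁻¹ᵁ V') :=
    ((N.presheaf.map (homOfLE hle).op).hom).comp
      ((cmap h.w M e₁ (f ⁻¹ᵁ V) le_rfl).comp
        (ι.toLinearMap.lTensor Γ(S', V')).toAddMonoidHom)
  have key : ∀ t : Γ(S', V') ⊗[Γ(S, V)] Γ((pushforward f).obj M, V), L t = R t := by
    intro t
    induction t using TensorProduct.induction_on with
    | zero => rw [map_zero L, map_zero R]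
    | tmul b m' =>
      have h0 : E₁.symm ((1 : Γ(S', V')) ⊗ₜ[Γ(S, V)] m') =
          pullSectLE g ((pushforward f).obj M) V V' e₁ m' := by
        rw [LinearEquiv.symm_apply_eq]
        exact (pullbackSectionsEquiv_pullSectLE g ((pushforward f).obj M) hV' hV e₁ m').symm
      have h1 : E₁.symm (b ⊗ₜ[Γ(S, V)] m') =
          b • pullSectLE g ((pushforward f).obj M) V V' e₁ m' := by
        have : b ⊗ₜ[Γ(S, V)] m' = b • ((1 : Γ(S', V')) ⊗ₜ[Γ(S, V)] m') := by
          rw [TensorProduct.smul_tmul', smul_eq_mul, mul_one]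
        rw [this, _root_.map_smul, h0]
      have h3 : (bc f g g' f' h.w M).app V'
          (pullSectLE g ((pushforward f).obj M) V V' e₁ m') =
          pullSectLE g' M (f ⁻¹ᵁ V) (f' ⁻¹ᵁ V') e₂ (ι m') := by
        unfold pullSectLE
        rw [Groth.Agent.H44.hom_app_resLE, bc_app_pullSect]
        exact resM_comp _ _ _
      have h2 : (bc f g g' f' h.w M).app V'
          (b • pullSectLE g ((pushforward f).obj M) V V' e₁ m') =
          (f'.app V').hom b • pullSectLE g' M (f ⁻¹ᵁ V) (f' ⁻¹ᵁ V') e₂ (ι m') := by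
        rw [Scheme.Modules.Hom.app_smul, h3]
        rfl
      change (bc f g g' f' h.w M).app V' (E₁.symm (b ⊗ₜ[Γ(S, V)] m')) =
        N.presheaf.map (homOfLE hle).op
          (cmap h.w M e₁ (f ⁻¹ᵁ V) le_rfl ((ι.toLinearMap.lTensor Γ(S', V')) (b ⊗ₜ[Γ(S, V)] m')))
      rw [h1, h2, LinearMap.lTensor_tmul, cmap_tmul, Groth.Agent.H8.res_smul, pullSectLE_res]
      congr 1
      have h4 := f'.appLE_map (inf_le_right : g' ⁻¹ᵁ (f ⁻¹ᵁ V) ⊓ f' ⁻¹ᵁ V' ≤ f' ⁻¹ᵁ V')
        (homOfLE hle).op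
      rw [Scheme.Hom.appLE_eq_app] at h4
      exact (congr($h4 b)).symm
    | add x y hx hy => rw [map_add L, map_add R, hx, hy]
  have hfun : ((bc f g g' f' h.w M).app V' : _ → _) =
      (N.presheaf.map (homOfLE hle).op) ∘ (cmap h.w M e₁ (f ⁻¹ᵁ V) le_rfl) ∘
        (LinearEquiv.lTensor Γ(S', V') ι) ∘ E₁ := by
    funext z
    have := key (E₁ z)
    change (bc f g g' f' h.w M).app V' (E₁.symm (E₁ z)) = _ at this
    rw [LinearEquiv.symm_apply_apply] at this
    exact this
  rw [hfun]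
  exact hρ.comp (hcmap.comp ((LinearEquiv.lTensor Γ(S', V') ι).bijective.comp E₁.bijective))

/-- **Flat base change**: for a pullback square with `f` quasi-compact and quasi-separated, `g` flat
and `M` quasi-coherent, the base change map `g^* f_* M ⟶ f'_* g'^* M` is an isomorphism. -/
theorem isIso_bc_of_flat (h : IsPullback g' f' f g) [QuasiCompact f] [QuasiSeparated f] [Flat g]
    (M : X.Modules) [M.IsQuasicoherent] : IsIso (bc f g g' f' h.w M) := by
  haveI hf'1 : QuasiCompact f' := MorphismProperty.of_isPullback h (inferInstance : QuasiCompact f)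
  haveI hf'2 : QuasiSeparated f' :=
    MorphismProperty.of_isPullback h (inferInstance : QuasiSeparated f)
  haveI hN : ((pushforward f).obj M).IsQuasicoherent :=
    Groth.Agent.H8.isQuasicoherent_pushforward_of_qcqs f M
  haveI hB : ((pushforward f').obj ((Scheme.Modules.pullback g').obj M)).IsQuasicoherent :=
    Groth.Agent.H8.isQuasicoherent_pushforward_of_qcqs f' _
  have key : ∀ x' : S', ∃ (V : S.Opens) (V' : S'.Opens), IsAffineOpen V ∧ IsAffineOpen V' ∧
      x' ∈ V' ∧ V' ≤ g ⁻¹ᵁ V := by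
    intro x'
    obtain ⟨V, hV, hxV, -⟩ := exists_isAffineOpen_mem_and_subset
      (x := g x') (U := (⊤ : S.Opens)) trivial
    obtain ⟨V', hV', hxV', hle⟩ := exists_isAffineOpen_mem_and_subset
      (x := x') (U := g ⁻¹ᵁ V) hxV
    exact ⟨V, V', hV, hV', hxV', hle⟩
  choose V V' hV hV' hx hle using key
  refine Groth.Agent.H12.QCohIso.isIso_of_bijective_on_cover _ V' (fun x' => ⟨x', hx x'⟩) hV' ?_
  intro x'
  exact bc_app_bijective_of_flat h M (hV x') (hV' x') (hle x')
    (Scheme.Hom.flat_appLE g (hV x') (hV' x') (hle x'))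

/-- the statement in expanded form -/
theorem isIso_baseChange_of_flat (h : IsPullback g' f' f g) [QuasiCompact f] [QuasiSeparated f]
    [Flat g] (M : X.Modules) [M.IsQuasicoherent] :
    IsIso ((Scheme.Modules.pullback g).map ((Scheme.Modules.pushforward f).map
        ((Scheme.Modules.pullbackPushforwardAdjunction g').unit.app M)) ≫
      (Scheme.Modules.pullback g).map ((Scheme.Modules.pushforwardComp g' f ≪≫
          Scheme.Modules.pushforwardCongr h.w ≪≫ (Scheme.Modules.pushforwardComp f' g).symm).hom.app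
        ((Scheme.Modules.pullback g').obj M)) ≫
      (Scheme.Modules.pullbackPushforwardAdjunction g).counit.app
        ((Scheme.Modules.pushforward f').obj ((Scheme.Modules.pullback g').obj M))) := by
  have h1 := isIso_bc_of_flat h M
  unfold bc bcPre pushSquare at h1
  rw [Functor.map_comp, Category.assoc] at h1
  exact h1

end Groth.Agent.H71.PushBC
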