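import Groth.Agent.H71.PushBC.Cmap

/-!
helper71: flat base change for direct images along quasi-compact quasi-separated morphisms:
the comparison maps on sections are bijective (Mayer–Vietoris induction).
-/

set_option autoImplicit false
universe u
open CategoryTheory AlgebraicGeometry Scheme.Modules Opposite TopologicalSpace TensorProduct

namespace Groth.Agent.H71.PushBC

open Groth.Agent.H44

variable {X S X' S' : Scheme.{u}} {f : X ⟶ S} {g : S' ⟶ S} {g' : X' ⟶ X} {f' : X' ⟶ S'}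

/-- restriction of sections, linear over `Γ(S, V)` -/
noncomputable def resL (M : X.Modules) {V : S.Opens} {W₁ W₂ : X.Opens} (hW₁ : W₁ ≤ f ⁻¹ᵁ V)
    (h : W₂ ≤ W₁) :
    letI := modW (f := f) M W₁ hW₁
    letI := modW (f := f) M W₂ (h.trans hW₁)
    Γ(M, W₁) →ₗ[Γ(S, V)] Γ(M, W₂) :=
  letI := modW (f := f) M W₁ hW₁
  letI := modW (f := f) M W₂ (h.trans hW₁)
  { toFun := fun m => M.presheaf.map (homOfLE h).op m
    map_add' := fun x y => map_add (M.presheaf.map (homOfLE h).op).hom x y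
    map_smul' := fun a m => by
      change M.presheaf.map (homOfLE h).op ((f.appLE V W₁ hW₁).hom a • m) =
        (f.appLE V W₂ (h.trans hW₁)).hom a • M.presheaf.map (homOfLE h).op m
      rw [Groth.Agent.H8.res_smul]
      congr 1
      exact congr($(f.appLE_map hW₁ (homOfLE h).op) a) }

theorem resL_apply (M : X.Modules) {V : S.Opens} {W₁ W₂ : X.Opens} (hW₁ : W₁ ≤ f ⁻¹ᵁ V)
    (h : W₂ ≤ W₁) (m : Γ(M, W₁)) :
    resL (f := f) M hW₁ h m = M.presheaf.map (homOfLE h).op m := rfl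

variable (w : g' ≫ f = f' ≫ g) (M : X.Modules) {V : S.Opens} {V' : S'.Opens}
  (e₁ : V' ≤ g ⁻¹ᵁ V)

theorem pre_mono {W₁ W₂ : X.Opens} (h : W₂ ≤ W₁) :
    g' ⁻¹ᵁ W₂ ⊓ f' ⁻¹ᵁ V' ≤ g' ⁻¹ᵁ W₁ ⊓ f' ⁻¹ᵁ V' :=
  inf_le_inf_right _ (g'.preimage_mono h)

/-- naturality of the comparison maps -/
theorem cmap_res {W₁ W₂ : X.Opens} (hW₁ : W₁ ≤ f ⁻¹ᵁ V) (h : W₂ ≤ W₁) :
    letI := algAB (g := g) e₁
    letI := modW (f := f) M W₁ hW₁
    letI := modW (f := f) M W₂ (h.trans hW₁)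
    ∀ t : Γ(S', V') ⊗[Γ(S, V)] Γ(M, W₁),
    ((pullback g').obj M).presheaf.map (homOfLE (pre_mono (g' := g') (f' := f') (V' := V') h)).op
      (cmap w M e₁ W₁ hW₁ t) =
      cmap w M e₁ W₂ (h.trans hW₁) ((resL (f := f) M hW₁ h).lTensor Γ(S', V') t) := by
  letI := algAB (g := g) e₁
  letI := modW (f := f) M W₁ hW₁
  letI := modW (f := f) M W₂ (h.trans hW₁)
  intro t
  induction t using TensorProduct.induction_on with
  | zero => simp only [map_zero]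
  | tmul b m =>
    rw [LinearMap.lTensor_tmul, cmap_tmul, cmap_tmul, Groth.Agent.H8.res_smul, pullSectLE_res,
      resL_apply, pullSectLE_of_res]
    congr 1
    exact congr($(f'.appLE_map (inf_le_right : g' ⁻¹ᵁ W₁ ⊓ f' ⁻¹ᵁ V' ≤ f' ⁻¹ᵁ V')
      (homOfLE (pre_mono (g' := g') (f' := f') (V' := V') h)).op) b)
  | add x y hx hy => simp only [map_add, hx, hy]

include e₁ in
theorem isAffineOpen_pre (h : IsPullback g' f' f g) (hV : IsAffineOpen V) (hV' : IsAffineOpen V')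
    {W : X.Opens} (hW : IsAffineOpen W) (hWV : W ≤ f ⁻¹ᵁ V) :
    IsAffineOpen (g' ⁻¹ᵁ W ⊓ f' ⁻¹ᵁ V') := by
  have : IsAffine _ := hV
  have : IsAffine _ := hV'
  have : IsAffine _ := hW
  exact .of_isIso (Scheme.Hom.isPullback_resLE h e₁ hWV rfl).isoPullback.hom

theorem isPushout_sections' (h : IsPullback g' f' f g) (hV : IsAffineOpen V)
    (hV' : IsAffineOpen V') {W : X.Opens} (hW : IsAffineOpen W) (hWV : W ≤ f ⁻¹ᵁ V) :
    IsPushout (g.appLE V V' e₁) (f.appLE V W hWV)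
      (f'.appLE V' (g' ⁻¹ᵁ W ⊓ f' ⁻¹ᵁ V') inf_le_right)
      (g'.appLE W (g' ⁻¹ᵁ W ⊓ f' ⁻¹ᵁ V') inf_le_left) := by
  have h1 := isIso_pushoutSection_of_isAffineOpen h e₁ hWV rfl hV hV' hW
  exact ((isIso_pushoutSection_iff h e₁ hWV rfl).mp h1).flip

set_option maxHeartbeats 1600000 in
set_option maxRecDepth 4000 in
/-- the affine case -/
theorem cmap_bijective_of_isAffineOpen (h : IsPullback g' f' f g) [M.IsQuasicoherent]
    (hV : IsAffineOpen V) (hV' : IsAffineOpen V') {W : X.Opens} (hW : IsAffineOpen W)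
    (hWV : W ≤ f ⁻¹ᵁ V) : Function.Bijective (cmap h.w M e₁ W hWV) := by
  have hW' := isAffineOpen_pre e₁ h hV hV' hW hWV
  letI a1 := algAB (g := g) e₁
  letI a2 : Algebra Γ(S, V) Γ(X, W) := (f.appLE V W hWV).hom.toAlgebra
  letI a3 : Algebra Γ(S', V') Γ(X', g' ⁻¹ᵁ W ⊓ f' ⁻¹ᵁ V') :=
    (f'.appLE V' (g' ⁻¹ᵁ W ⊓ f' ⁻¹ᵁ V') inf_le_right).hom.toAlgebra
  letI a4 : Algebra Γ(X, W) Γ(X', g' ⁻¹ᵁ W ⊓ f' ⁻¹ᵁ V') :=
    (g'.appLE W (g' ⁻¹ᵁ W ⊓ f' ⁻¹ᵁ V') inf_le_left).hom.toAlgebra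
  letI a5 : Algebra Γ(S, V) Γ(X', g' ⁻¹ᵁ W ⊓ f' ⁻¹ᵁ V') :=
    (g.appLE V V' e₁ ≫ f'.appLE V' (g' ⁻¹ᵁ W ⊓ f' ⁻¹ᵁ V') inf_le_right).hom.toAlgebra
  haveI t1 : IsScalarTower Γ(S, V) Γ(S', V') Γ(X', g' ⁻¹ᵁ W ⊓ f' ⁻¹ᵁ V') :=
    IsScalarTower.of_algebraMap_eq' rfl
  have hpo := isPushout_sections' e₁ h hV hV' hW hWV
  haveI t2 : IsScalarTower Γ(S, V) Γ(X, W) Γ(X', g' ⁻¹ᵁ W ⊓ f' ⁻¹ᵁ V') :=
    IsScalarTower.of_algebraMap_eq' (congrArg (fun k => k.hom) hpo.w)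
  haveI po : Algebra.IsPushout Γ(S, V) Γ(S', V') Γ(X, W) Γ(X', g' ⁻¹ᵁ W ⊓ f' ⁻¹ᵁ V') :=
    CommRingCat.isPushout_iff_isPushout.mp hpo
  letI mR := modW (f := f) M W hWV
  haveI t3 : IsScalarTower Γ(S, V) Γ(X, W) Γ(M, W) :=
    IsScalarTower.of_algebraMap_smul (fun _ _ => rfl)
  let E₂ := pullbackSectionsEquiv g' M hW' hW inf_le_left
  refine Groth.Agent.H71.BaseChange.bijective_of_tensor' (R := Γ(S, V)) (R' := Γ(S', V'))
    (S := Γ(X, W)) (S' := Γ(X', g' ⁻¹ᵁ W ⊓ f' ⁻¹ᵁ V')) (M := Γ(M, W))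
    (LinearEquiv.refl _ _) (cmap h.w M e₁ W hWV) (AddEquiv.refl _) E₂.toAddEquiv ?_
  intro b m
  change E₂ (cmap h.w M e₁ W hWV (b ⊗ₜ m)) = _
  rw [cmap_tmul, _root_.map_smul, pullbackSectionsEquiv_pullSectLE, TensorProduct.smul_tmul',
    smul_eq_mul, mul_one]
  rfl

/-- the empty case -/
theorem cmap_bijective_bot : Function.Bijective (cmap w M e₁ ⊥ bot_le) := by
  letI := algAB (g := g) e₁
  letI := modW (f := f) M (V := V) ⊥ bot_le
  have hs : ∀ t : Γ(S', V') ⊗[Γ(S, V)] Γ(M, ⊥), t = 0 := by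
    intro t
    induction t using TensorProduct.induction_on with
    | zero => rfl
    | tmul b m =>
      have : m = 0 := Groth.Agent.H8.sections_bot_eq M rfl _ _
      rw [this, TensorProduct.tmul_zero]
    | add x y hx hy => rw [hx, hy, add_zero]
  have hbot : g' ⁻¹ᵁ (⊥ : X.Opens) ⊓ f' ⁻¹ᵁ V' = ⊥ := by
    ext x
    simp
  constructor
  · intro x y _
    rw [hs x, hs y]
  · intro y
    exact ⟨0, Groth.Agent.H8.sections_bot_eq _ hbot _ _⟩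

end Groth.Agent.H71.PushBC
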