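import Groth.Agent.H71.PushBC.Induct

/-!
helper71: flat base change for direct images along quasi-compact quasi-separated morphisms:
the Mayer–Vietoris step, the induction and the main theorem.
-/

set_option autoImplicit false
universe u
open CategoryTheory AlgebraicGeometry Scheme.Modules Opposite TopologicalSpace TensorProduct

namespace Groth.Agent.H71.PushBC

open Groth.Agent.H44

variable {X S X' S' : Scheme.{u}} {f : X ⟶ S} {g : S' ⟶ S} {g' : X' ⟶ X} {f' : X' ⟶ S'}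
  (w : g' ≫ f = f' ≫ g) (M : X.Modules) {V : S.Opens} {V' : S'.Opens}
  (e₁ : V' ≤ g ⁻¹ᵁ V)

set_option maxHeartbeats 1600000 in
/-- the Mayer–Vietoris step -/
theorem cmap_bijective_sup (hfl : (g.appLE V V' e₁).hom.Flat) {W₁ W₂ : X.Opens}
    (hW : W₁ ⊔ W₂ ≤ f ⁻¹ᵁ V)
    (h₁ : Function.Bijective (cmap w M e₁ W₁ (le_sup_left.trans hW)))
    (h₂ : Function.Bijective (cmap w M e₁ W₂ (le_sup_right.trans hW)))
    (h₁₂ : Function.Injective
      (cmap w M e₁ (W₁ ⊓ W₂) (inf_le_left.trans (le_sup_left.trans hW)))) :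
    Function.Bijective (cmap w M e₁ (W₁ ⊔ W₂) hW) := by
  letI := algAB (g := g) e₁
  haveI : Module.Flat Γ(S, V) Γ(S', V') := hfl
  letI := modW (f := f) M (W₁ ⊔ W₂) hW
  letI := modW (f := f) M W₁ (le_sup_left.trans hW)
  letI := modW (f := f) M W₂ (le_sup_right.trans hW)
  letI := modW (f := f) M (W₁ ⊓ W₂) (inf_le_left.trans (le_sup_left.trans hW))
  have hcover : g' ⁻¹ᵁ (W₁ ⊔ W₂) ⊓ f' ⁻¹ᵁ V' ≤
      (g' ⁻¹ᵁ W₁ ⊓ f' ⁻¹ᵁ V') ⊔ (g' ⁻¹ᵁ W₂ ⊓ f' ⁻¹ᵁ V') := by
    rintro x ⟨hx1, hx2⟩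
    rcases hx1 with hx1 | hx1
    · exact Or.inl ⟨hx1, hx2⟩
    · exact Or.inr ⟨hx1, hx2⟩
  refine bijective_of_mv (A := Γ(S, V)) (B := Γ(S', V'))
    (resL (f := f) M hW le_sup_left) (resL (f := f) M hW le_sup_right)
    (resL (f := f) M (le_sup_left.trans hW) inf_le_left)
    (resL (f := f) M (le_sup_right.trans hW) inf_le_right)
    (((pullback g').obj M).presheaf.map
      (homOfLE (pre_mono (g' := g') (f' := f') (V' := V')
        (le_sup_left : W₁ ≤ W₁ ⊔ W₂))).op).hom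
    (((pullback g').obj M).presheaf.map
      (homOfLE (pre_mono (g' := g') (f' := f') (V' := V')
        (le_sup_right : W₂ ≤ W₁ ⊔ W₂))).op).hom
    (((pullback g').obj M).presheaf.map
      (homOfLE (pre_mono (g' := g') (f' := f') (V' := V')
        (inf_le_left : W₁ ⊓ W₂ ≤ W₁))).op).hom
    (((pullback g').obj M).presheaf.map
      (homOfLE (pre_mono (g' := g') (f' := f') (V' := V')
        (inf_le_right : W₁ ⊓ W₂ ≤ W₂))).op).hom
    (cmap w M e₁ (W₁ ⊔ W₂) hW) (cmap w M e₁ W₁ (le_sup_left.trans hW))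
    (cmap w M e₁ W₂ (le_sup_right.trans hW))
    (cmap w M e₁ (W₁ ⊓ W₂) (inf_le_left.trans (le_sup_left.trans hW)))
    ?_ ?_ ?_ ?_ ?_ ?_ ?_ ?_ ?_ h₁ h₂ h₁₂
  · intro x hx1 hx2
    exact Groth.Agent.H8.eq_of_res₂ M x 0 (hx1.trans (map_zero _).symm)
      (hx2.trans (map_zero _).symm)
  · intro x₁ x₂ hx
    exact Groth.Agent.H8.exists_glue₂ M x₁ x₂ hx
  · intro x
    change M.presheaf.map _ (M.presheaf.map _ x) = M.presheaf.map _ (M.presheaf.map _ x)
    rw [resM_comp, resM_comp]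
  · intro y hy1 hy2
    exact TopCat.Sheaf.eq_of_locally_eq₂ (Groth.Agent.H8.abSheaf ((pullback g').obj M))
      (homOfLE (pre_mono le_sup_left)) (homOfLE (pre_mono le_sup_right)) hcover y 0
      (hy1.trans (map_zero _).symm) (hy2.trans (map_zero _).symm)
  · intro y
    change ((pullback g').obj M).presheaf.map _ (((pullback g').obj M).presheaf.map _ y) =
      ((pullback g').obj M).presheaf.map _ (((pullback g').obj M).presheaf.map _ y)
    rw [resM_comp, resM_comp]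
  · intro t
    exact cmap_res w M e₁ hW le_sup_left t
  · intro t
    exact cmap_res w M e₁ hW le_sup_right t
  · intro t
    exact cmap_res w M e₁ (le_sup_left.trans hW) inf_le_left t
  · intro t
    exact cmap_res w M e₁ (le_sup_right.trans hW) inf_le_right t

/-- the comparison maps are bijective on quasi-compact opens of a quasi-separated preimage -/
theorem cmap_bijective_of_isCompact (h : IsPullback g' f' f g) [M.IsQuasicoherent]
    (hV : IsAffineOpen V) (hV' : IsAffineOpen V') (hfl : (g.appLE V V' e₁).hom.Flat)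
    (hqs : IsQuasiSeparated ((f ⁻¹ᵁ V : X.Opens) : Set X)) (W : X.Opens) (hWV : W ≤ f ⁻¹ᵁ V)
    (hc : IsCompact (W : Set X)) : Function.Bijective (cmap h.w M e₁ W hWV) := by
  have key := Groth.Agent.Lead.Coh.qcqs_induction
    (P := fun W : X.Opens => ∀ hWV : W ≤ f ⁻¹ᵁ V, Function.Bijective (cmap h.w M e₁ W hWV))
    ?_ ?_ (f ⁻¹ᵁ V) hqs ?_ W hWV hc
  · exact key hWV
  · intro _
    exact cmap_bijective_bot h.w M e₁
  · intro W₁ W₂ h₁ h₂ h₁₂ hW
    exact cmap_bijective_sup h.w M e₁ hfl hW (h₁ _) (h₂ _) (h₁₂ _).1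
  · intro U hU _ hUV
    exact cmap_bijective_of_isAffineOpen M e₁ h hV hV' hU hUV

end Groth.Agent.H71.PushBC
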